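import Groth.Prelude.Def_ArtFun4
import Groth.Agent.DefLib.AffineExt
import Mathlib.RingTheory.Polynomial.Quotient
import Mathlib.RingTheory.MvPolynomial.Basic
import Mathlib.AlgebraicGeometry.Morphisms.Flat
import Mathlib.RingTheory.Flat.TorsionFree
import Mathlib.RingTheory.Artinian.Module

/-!
# The deformation functor of the node is not prorepresentable

The deformation `xy = t` over `k[t]/t³` is fixed by the automorphism `t ↦ t + t²`, so a prorepresenting map would make
its reduction modulo `t²` the trivial deformation, which it is not.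
-/

set_option autoImplicit false
set_option linter.style.haveILetI false

universe u

open CategoryTheory CategoryTheory.Limits AlgebraicGeometry Polynomial

noncomputable section

namespace NodeDef56Lib

variable {k : Type u} [Field k]

/-- Base change computed by any cartesian square. -/
theorem nonempty_iso_of_isPullback {X : Scheme.{u}} {x : X ⟶ Spec (CommRingCat.of k)} {A B : ArtFun.Art k k}
    (ξ : ArtFun.DefSch X x A) (ξ' : ArtFun.DefSch X x B) (g : A ⟶ B) (q : ξ'.total ⟶ ξ.total)
    (hq : IsPullback q ξ'.f ξ.f (ArtFun.Art.specMap g)) (hi : ξ'.i ≫ q = ξ.i) :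
    Nonempty ((ξ.baseChange g).Iso ξ') := by
  let e := (IsPullback.of_hasPullback ξ.f (ArtFun.Art.specMap g)).isoIsPullback _ _ hq
  refine ⟨⟨e, IsPullback.isoIsPullback_hom_snd _ _ _ _, ?_⟩⟩
  apply hq.hom_ext
  · rw [Category.assoc, IsPullback.isoIsPullback_hom_fst _ _ _ hq, ArtFun.DefSch.baseChange_i_fst, hi]
  · rw [Category.assoc, IsPullback.isoIsPullback_hom_snd _ _ _ hq, ArtFun.DefSch.baseChange_i_f, ξ'.i_f]

variable (k)

/-- The truncated polynomial ring `k[t]/tⁿ`. -/
abbrev T (n : ℕ) := k[X] ⧸ Ideal.span {(X : k[X]) ^ n}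

/-- Its coordinate. -/
abbrev tt (n : ℕ) : T k n := Ideal.Quotient.mk _ X

/-- The affine plane. -/
abbrev M := MvPolynomial (Fin 2) k

/-- The product of the coordinates. -/
abbrev xy : M k := MvPolynomial.X 0 * MvPolynomial.X 1

/-- The node `k[x,y]/(xy)`. -/
abbrev N := M k ⧸ Ideal.span {xy k}

/-- The thickened node `k[x,y]/(xy)ⁿ`. -/
abbrev B (n : ℕ) := M k ⧸ Ideal.span {xy k ^ n}

theorem tt_pow (n : ℕ) : tt k n ^ n = 0 := by
  rw [← map_pow, Ideal.Quotient.eq_zero_iff_mem]
  exact Ideal.mem_span_singleton_self _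

theorem T_surj (n : ℕ) : Function.Surjective (Ideal.Quotient.mk (Ideal.span {(X : k[X]) ^ n})) :=
  Ideal.Quotient.mk_surjective

/-- The augmentation. -/
def res (n : ℕ) (hn : n ≠ 0) : T k n →ₐ[k] k :=
  Ideal.Quotient.liftₐ _ (aeval (0 : k)) fun a ha => by
    obtain ⟨b, rfl⟩ := Ideal.mem_span_singleton.mp ha
    simp [hn]

theorem res_tt (n : ℕ) (hn : n ≠ 0) : res k n hn (tt k n) = 0 := aeval_X (0 : k)

/-- `k[t]/tⁿ` as a test object. -/
def art (n : ℕ) (hn : n ≠ 0) : ArtFun.Art k k :=
  haveI : Nontrivial (T k n) := (res k n hn).toRingHom.domain_nontrivial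
  haveI : IsLocalRing (T k n) := by
    refine IsLocalRing.of_isUnit_or_isUnit_one_sub_self fun a => ?_
    have key : ∀ a : T k n, res k n hn a ≠ 0 → IsUnit a := by
      intro a ha
      obtain ⟨P, rfl⟩ := Ideal.Quotient.mk_surjective a
      have hP : P.coeff 0 ≠ 0 := by
        rw [coeff_zero_eq_eval_zero]
        exact fun e => ha ((coe_aeval_eq_eval (0 : k) ▸ rfl : aeval (0 : k) P = P.eval 0).trans e)
      have hnil : IsNilpotent (Ideal.Quotient.mk (Ideal.span {(X : k[X]) ^ n}) (X * P.divX)) := by
        refine ⟨n, ?_⟩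
        rw [map_mul, mul_pow, tt_pow, zero_mul]
      have hu : IsUnit (Ideal.Quotient.mk (Ideal.span {(X : k[X]) ^ n}) (Polynomial.C (P.coeff 0))) :=
        (Polynomial.isUnit_C.mpr (isUnit_iff_ne_zero.mpr hP)).map _
      have h := hnil.isUnit_add_right_of_commute hu (Commute.all _ _)
      rwa [← map_add, Polynomial.X_mul_divX_add] at h
    by_cases h : res k n hn a = 0
    · exact Or.inr (key _ (by rw [map_sub, map_one, h, sub_zero]; exact one_ne_zero))
    · exact Or.inl (key a h)
  haveI : Module.Finite k (T k n) := (monic_X_pow n).finite_quotient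
  haveI : IsArtinianRing (T k n) := IsArtinianRing.of_finite k _
  ArtFun.Art.of (T k n) (res k n hn) fun c => ⟨algebraMap k _ c, (res k n hn).commutes c⟩

/-- The structure map of the family `xy = t`. -/
def str (n : ℕ) : T k n →ₐ[k] B k n :=
  Ideal.Quotient.liftₐ _ (aeval (Ideal.Quotient.mk (Ideal.span {xy k ^ n}) (xy k))) fun a ha => by
    obtain ⟨b, rfl⟩ := Ideal.mem_span_singleton.mp ha
    rw [map_mul, map_pow, aeval_X, ← map_pow, Ideal.Quotient.eq_zero_iff_mem.mpr (Ideal.mem_span_singleton_self _),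
      zero_mul]

theorem str_tt (n : ℕ) : str k n (tt k n) = Ideal.Quotient.mk _ (xy k) :=
  aeval_X (Ideal.Quotient.mk (Ideal.span {xy k ^ n}) (xy k))

/-- The closed fibre. -/
def proj (n : ℕ) (hn : n ≠ 0) : B k n →ₐ[k] N k :=
  Ideal.Quotient.factorₐ k (Ideal.span_singleton_le_span_singleton.mpr (dvd_pow_self _ hn))

theorem proj_mk (n : ℕ) (hn : n ≠ 0) (p : M k) :
    proj k n hn (Ideal.Quotient.mk _ p) = Ideal.Quotient.mk _ p := rfl

theorem T_ext {S : Type u} [CommRing S] {n : ℕ} (f g : T k n →+* S)
    (hC : ∀ c : k, f (algebraMap k _ c) = g (algebraMap k _ c)) (ht : f (tt k n) = g (tt k n)) : f = g :=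
  Ideal.Quotient.ringHom_ext (Polynomial.ringHom_ext hC ht)

theorem proj_str (n : ℕ) (hn : n ≠ 0) :
    (algebraMap k (N k)).comp (res k n hn).toRingHom = (proj k n hn).toRingHom.comp (str k n).toRingHom := by
  refine T_ext k _ _ (fun c => ?_) ?_
  · show algebraMap k (N k) (res k n hn (algebraMap k _ c)) = proj k n hn (str k n (algebraMap k _ c))
    simp only [AlgHom.commutes]
    rfl
  · show algebraMap k (N k) (res k n hn (tt k n)) = proj k n hn (str k n (tt k n))
    rw [res_tt, map_zero, str_tt, proj_mk]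
    exact (Ideal.Quotient.eq_zero_iff_mem.mpr (Ideal.mem_span_singleton_self _)).symm

/-- The map `k[t] → k[x,y]`, `t ↦ xy`. -/
def base : k[X] →ₐ[k] M k := aeval (xy k)

theorem flat_base : (base k).toRingHom.Flat := by
  letI := (base k).toRingHom.toAlgebra
  have hinj : Function.Injective (base k) := by
    refine (injective_iff_map_eq_zero _).mpr fun p hp => ?_
    have := congrArg (MvPolynomial.aeval (fun i : Fin 2 => if i = 0 then (X : k[X]) else 1)) hp
    rw [base, ← Polynomial.aeval_algHom_apply, map_zero, map_mul, MvPolynomial.aeval_X, MvPolynomial.aeval_X,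
      if_pos rfl, if_neg one_ne_zero, mul_one, aeval_X_left_apply] at this
    exact this
  haveI : FaithfulSMul k[X] (M k) := (faithfulSMul_iff_algebraMap_injective _ _).mpr hinj
  haveI : Module.IsTorsionFree k[X] (M k) := inferInstance
  show Module.Flat k[X] (M k)
  infer_instance

theorem flat_str (n : ℕ) : Flat (Spec.map (CommRingCat.ofHom (str k n).toRingHom)) := by
  have h := DefLib.isPushout_of_surjective (CommRingCat.ofHom (Ideal.Quotient.mk (Ideal.span {(X : k[X]) ^ n})))
    (CommRingCat.ofHom (base k).toRingHom) (CommRingCat.ofHom (str k n).toRingHom)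
    (CommRingCat.ofHom (Ideal.Quotient.mk (Ideal.span {xy k ^ n})))
    (by
      apply CommRingCat.hom_ext
      refine Polynomial.ringHom_ext (fun c => ?_) ?_
      · show str k n (algebraMap k _ c) = Ideal.Quotient.mk _ (base k (Polynomial.C c))
        rw [AlgHom.commutes, ← Polynomial.algebraMap_eq, AlgHom.commutes]
        rfl
      · show str k n (tt k n) = Ideal.Quotient.mk _ (base k X)
        rw [str_tt, base, aeval_X])
    Ideal.Quotient.mk_surjective Ideal.Quotient.mk_surjective (by
      intro p hp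
      rw [RingHom.mem_ker] at hp
      obtain ⟨c, rfl⟩ := Ideal.mem_span_singleton.mp (Ideal.Quotient.eq_zero_iff_mem.mp hp)
      refine Ideal.mul_mem_right _ _ ?_
      rw [show xy k ^ n = (base k).toRingHom ((X : k[X]) ^ n) by simp [base]]
      exact Ideal.mem_map_of_mem _ (Ideal.Quotient.eq_zero_iff_mem.mpr (Ideal.mem_span_singleton_self _)))
  have hflat : Flat (Spec.map (CommRingCat.ofHom (base k).toRingHom)) :=
    HasRingHomProperty.Spec_iff.mpr (flat_base k)
  exact MorphismProperty.of_isPullback (isPullback_SpecMap_of_isPushout _ _ _ _ h).flip hflat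

/-- The deformation `xy = t` of the node over `k[t]/tⁿ`. -/
def family (n : ℕ) (hn : n ≠ 0) :
    ArtFun.DefSch (Spec (CommRingCat.of (N k))) (Spec.map (CommRingCat.ofHom (algebraMap k (N k)))) (art k n hn) where
  total := Spec (CommRingCat.of (B k n))
  f := Spec.map (CommRingCat.ofHom (str k n).toRingHom)
  flat := flat_str k n
  i := Spec.map (CommRingCat.ofHom (proj k n hn).toRingHom)
  isPullback := (isPullback_SpecMap_of_isPushout _ _ _ _ (DefLib.isPushout_of_surjective
    (CommRingCat.ofHom (res k n hn).toRingHom) (CommRingCat.ofHom (str k n).toRingHom)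
    (CommRingCat.ofHom (algebraMap k (N k))) (CommRingCat.ofHom (proj k n hn).toRingHom)
    (CommRingCat.hom_ext (proj_str k n hn)) (fun c => ⟨algebraMap k _ c, (res k n hn).commutes c⟩)
    (Ideal.Quotient.factor_surjective (Ideal.span_singleton_le_span_singleton.mpr (dvd_pow_self _ hn))) (by
      intro p hp
      obtain ⟨p, rfl⟩ := Ideal.Quotient.mk_surjective p
      obtain ⟨c, rfl⟩ := Ideal.mem_span_singleton.mp (Ideal.Quotient.eq_zero_iff_mem.mp (RingHom.mem_ker.mp hp))
      rw [map_mul]
      refine Ideal.mul_mem_right _ _ ?_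
      rw [← str_tt]
      exact Ideal.mem_map_of_mem (str k n).toRingHom (RingHom.mem_ker.mpr (res_tt k n hn))))).flip

end NodeDef56Lib
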