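import Groth.Agent.NodeDef56Lib.Basic
import Groth.Prelude.Def_ArtFun2
import Mathlib.Algebra.Polynomial.Div

/-!
# The deformation functor of the node is not prorepresentable
-/

set_option autoImplicit false
set_option linter.style.haveILetI false

universe u

open CategoryTheory CategoryTheory.Limits AlgebraicGeometry Polynomial

noncomputable section

namespace NodeDef56Lib

variable (k : Type u) [Field k]

theorem tt3_sq_ne : tt k 3 ^ 2 ≠ 0 := by
  rw [← map_pow, Ne, Ideal.Quotient.eq_zero_iff_mem, Ideal.mem_span_singleton, pow_dvd_pow_iff X_ne_zero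
    Polynomial.not_isUnit_X]
  decide

/-- Truncation. -/
def trA : T k 3 →ₐ[k] T k 2 :=
  Ideal.Quotient.factorₐ k (Ideal.span_singleton_le_span_singleton.mpr (pow_dvd_pow _ (by decide)))

theorem trA_tt : trA k (tt k 3) = tt k 2 := rfl

/-- The automorphism `t ↦ t + t²` and its inverse. -/
def tw (c : k) : T k 3 →ₐ[k] T k 3 :=
  Ideal.Quotient.liftₐ _ (aeval (tt k 3 + algebraMap k (T k 3) c * tt k 3 ^ 2)) fun a ha => by
    obtain ⟨b, rfl⟩ := Ideal.mem_span_singleton.mp ha
    have h4 : tt k 3 ^ 3 = 0 := tt_pow k 3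
    rw [map_mul, map_pow, aeval_X]
    linear_combination ((1 + algebraMap k (T k 3) c * tt k 3) ^ 3 * aeval (tt k 3 +
      algebraMap k (T k 3) c * tt k 3 ^ 2) b) * h4

theorem tw_tt (c : k) : tw k c (tt k 3) = tt k 3 + algebraMap k (T k 3) c * tt k 3 ^ 2 := aeval_X _

theorem res_comp_tw (c : k) : (res k 3 (by decide)).comp (tw k c) = res k 3 (by decide) := by
  refine Ideal.Quotient.algHom_ext _ (Polynomial.algHom_ext ?_)
  show res k 3 (by decide) (tw k c (tt k 3)) = res k 3 (by decide) (tt k 3)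
  rw [tw_tt, map_add, map_mul, map_pow, res_tt]
  simp

theorem res_comp_trA : (res k 2 (by decide)).comp (trA k) = res k 3 (by decide) := by
  refine Ideal.Quotient.algHom_ext _ (Polynomial.algHom_ext ?_)
  show res k 2 (by decide) (trA k (tt k 3)) = res k 3 (by decide) (tt k 3)
  rw [trA_tt, res_tt, res_tt]

/-- Truncation as a morphism. -/
def tr : art k 3 (by decide) ⟶ art k 2 (by decide) := ArtFun.Art.homMk (trA k) (res_comp_trA k)

/-- The automorphism as a morphism. -/
def phi (c : k) : art k 3 (by decide) ⟶ art k 3 (by decide) := ArtFun.Art.homMk (tw k c) (res_comp_tw k c)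

theorem tw_inv (c : k) : (tw k (-c)).comp (tw k c) = AlgHom.id k (T k 3) := by
  refine Ideal.Quotient.algHom_ext _ (Polynomial.algHom_ext ?_)
  show tw k (-c) (tw k c (tt k 3)) = tt k 3
  rw [tw_tt, map_add, map_mul, map_pow, AlgHom.commutes, tw_tt, map_neg]
  linear_combination (algebraMap k (T k 3) c * algebraMap k (T k 3) c *
    (-2 + tt k 3 * algebraMap k (T k 3) c)) * tt_pow k 3

theorem isIso_specMap_phi : IsIso (ArtFun.Art.specMap (phi k 1)) := by
  have h2 := tw_inv k (-1)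
  rw [neg_neg] at h2
  have hb : Function.Bijective (tw k 1) :=
    ⟨fun a b h => by rw [← AlgHom.id_apply (R := k) a, ← tw_inv k 1, AlgHom.comp_apply, h, ← AlgHom.comp_apply,
      tw_inv k 1, AlgHom.id_apply], fun a => ⟨tw k (-1) a, by rw [← AlgHom.comp_apply, h2, AlgHom.id_apply]⟩⟩
  haveI : IsIso (CommRingCat.ofHom (tw k 1).toRingHom) :=
    (ConcreteCategory.isIso_iff_bijective _).mpr hb
  show IsIso (Spec.map (CommRingCat.ofHom (tw k 1).toRingHom))
  infer_instance

/-- The coordinates of the thickened node. -/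
abbrev bx (n : ℕ) (i : Fin 2) : B k n := Ideal.Quotient.mk _ (MvPolynomial.X i)

theorem bx_mul (n : ℕ) : Ideal.Quotient.mk (Ideal.span {xy k ^ n}) (xy k) = bx k n 0 * bx k n 1 := map_mul _ _ _

theorem bx_pow (n : ℕ) : (bx k n 0 * bx k n 1) ^ n = 0 := by
  rw [← bx_mul, ← map_pow, Ideal.Quotient.eq_zero_iff_mem]
  exact Ideal.mem_span_singleton_self _

/-- The twist of the family over the automorphism. -/
def psi (c d : k) : B k 3 →ₐ[k] B k 3 :=
  Ideal.Quotient.liftₐ _ (MvPolynomial.aeval fun i => if i = 0 then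
      bx k 3 0 * (1 + algebraMap k (B k 3) c * (bx k 3 0 * bx k 3 1) +
        algebraMap k (B k 3) d * (bx k 3 0 * bx k 3 1) ^ 2)
    else bx k 3 1) fun a ha => by
    obtain ⟨b, rfl⟩ := Ideal.mem_span_singleton.mp ha
    rw [map_mul, map_pow, map_mul, MvPolynomial.aeval_X, MvPolynomial.aeval_X, if_pos rfl, if_neg one_ne_zero,
      mul_right_comm]
    exact mul_eq_zero_of_left ((mul_pow _ _ 3).trans (mul_eq_zero_of_left (bx_pow k 3) _)) _

theorem psi_X0 (c d : k) : psi k c d (bx k 3 0) =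
    bx k 3 0 * (1 + algebraMap k (B k 3) c * (bx k 3 0 * bx k 3 1) +
      algebraMap k (B k 3) d * (bx k 3 0 * bx k 3 1) ^ 2) := by
  refine (MvPolynomial.aeval_X _ _).trans ?_
  rw [if_pos rfl]

theorem psi_X1 (c d : k) : psi k c d (bx k 3 1) = bx k 3 1 := by
  refine (MvPolynomial.aeval_X _ _).trans ?_
  rw [if_neg one_ne_zero]

theorem psi_str (c d : k) (hd : d = 0) :
    (psi k c d).comp (str k 3) = (str k 3).comp (tw k c) := by
  refine Ideal.Quotient.algHom_ext _ (Polynomial.algHom_ext ?_)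
  show psi k c d (str k 3 (tt k 3)) = str k 3 (tw k c (tt k 3))
  rw [tw_tt, map_add, map_mul, map_pow, AlgHom.commutes, str_tt, bx_mul, map_mul, psi_X0, psi_X1, hd, map_zero,
    zero_mul, add_zero]
  ring

theorem proj_psi (c d : k) : (proj k 3 (by decide)).comp (psi k c d) = proj k 3 (by decide) := by
  refine Ideal.Quotient.algHom_ext _ (MvPolynomial.algHom_ext fun i => ?_)
  have hz : proj k 3 (by decide) (bx k 3 0 * bx k 3 1) = 0 := by
    rw [← bx_mul, proj_mk, Ideal.Quotient.eq_zero_iff_mem]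
    exact Ideal.mem_span_singleton_self _
  show proj k 3 (by decide) (psi k c d (bx k 3 i)) = proj k 3 (by decide) (bx k 3 i)
  rcases (by omega : i = 0 ∨ i = 1) with rfl | rfl
  · rw [psi_X0, mul_add, mul_add, mul_one, map_add, map_add, map_mul _ (bx k 3 0) (_ * _), map_mul _ (bx k 3 0) (_ * _),
      map_mul _ (algebraMap k _ c), map_mul _ (algebraMap k _ d), map_pow, hz]
    simp
  · rw [psi_X1]

theorem psi_psi_X0 (c d c' d' : k) (hc : c + c' = 0) (hd : d + d' + 2 * c * c' = 0) :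
    psi k c d (psi k c' d' (bx k 3 0)) = bx k 3 0 := by
  have e : algebraMap k (B k 3) c' = -algebraMap k (B k 3) c := by
    rw [← map_neg]; congr 1; linear_combination hc
  have e' : algebraMap k (B k 3) d' = 2 * algebraMap k (B k 3) c ^ 2 - algebraMap k (B k 3) d := by
    rw [← map_pow, ← map_ofNat (algebraMap k (B k 3)) 2, ← map_mul, ← map_sub]
    congr 1; linear_combination hd - 2 * c * hc
  rw [psi_X0]
  simp only [map_mul, map_add, map_one, map_pow, AlgHom.commutes]
  rw [psi_X0, psi_X1, e, e']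
  have h3 := bx_pow k 3
  generalize bx k 3 0 = x at h3 ⊢
  generalize bx k 3 1 = y at h3 ⊢
  generalize algebraMap k (B k 3) c = C
  generalize algebraMap k (B k 3) d = D
  linear_combination (x * (2 * C * ((2 * C ^ 2 - D) * (1 + C * (x * y) + D * (x * y) ^ 2) -
      D) + C * (2 * C ^ 2 - D) + (C ^ 3 - C * D) +
    x * y * ((2 * C ^ 2 - D) * (C ^ 2 + 2 * D) * (1 + C * (x * y) + D * (x * y) ^ 2) - D ^ 2 * 0)) +
    x * (C * D - 2 * C ^ 3 - (x * y) * D ^ 2 + (x * y) ^ 2 * (4 * C ^ 3 * D - 3 * C * D ^ 2) +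
      (x * y) ^ 3 * (4 * C ^ 4 * D - D ^ 3) + (x * y) ^ 4 * (6 * C ^ 3 * D ^ 2 - 3 * C * D ^ 3) +
      (x * y) ^ 5 * (2 * C ^ 2 * D ^ 3 - D ^ 4))) * h3

theorem psi_bijective : Function.Bijective (psi k 1 0) := by
  have hc : ∀ c d c' d' : k, c + c' = 0 → d + d' + 2 * c * c' = 0 →
      (psi k c d).comp (psi k c' d') = AlgHom.id k (B k 3) := fun c d c' d' h h' =>
    Ideal.Quotient.algHom_ext _ (MvPolynomial.algHom_ext fun i => by
      show psi k c d (psi k c' d' (bx k 3 i)) = bx k 3 i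
      rcases (by omega : i = 0 ∨ i = 1) with rfl | rfl
      · exact psi_psi_X0 k c d c' d' h h'
      · rw [psi_X1, psi_X1])
  have h1 := hc 1 0 (-1) 2 (by ring) (by ring)
  have h2 := hc (-1) 2 1 0 (by ring) (by ring)
  exact ⟨fun a b h => by rw [← AlgHom.id_apply (R := k) a, ← h2, AlgHom.comp_apply, h, ← AlgHom.comp_apply, h2,
    AlgHom.id_apply], fun a => ⟨psi k (-1) 2 a, by rw [← AlgHom.comp_apply, h1, AlgHom.id_apply]⟩⟩

theorem family_phi :
    Nonempty (((family k 3 (by decide)).baseChange (phi k 1)).Iso (family k 3 (by decide))) := by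
  haveI := isIso_specMap_phi k
  haveI : IsIso (CommRingCat.ofHom (psi k 1 0).toRingHom) :=
    (ConcreteCategory.isIso_iff_bijective _).mpr (psi_bijective k)
  haveI : IsIso (Spec.map (CommRingCat.ofHom (psi k 1 0).toRingHom)) := inferInstance
  refine nonempty_iso_of_isPullback _ _ _ (Spec.map (CommRingCat.ofHom (psi k 1 0).toRingHom)) ?_ ?_
  · refine @IsPullback.of_horiz_isIso _ _ _ _ _ _ _ _ _ _ this (isIso_specMap_phi k) ⟨?_⟩
    change Spec.map (CommRingCat.ofHom (psi k 1 0).toRingHom) ≫ Spec.map (CommRingCat.ofHom (str k 3).toRingHom) =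
      Spec.map (CommRingCat.ofHom (str k 3).toRingHom) ≫ Spec.map (CommRingCat.ofHom (tw k 1).toRingHom)
    rw [← Spec.map_comp, ← Spec.map_comp, ← CommRingCat.ofHom_comp, ← CommRingCat.ofHom_comp]
    exact congrArg (fun f : T k 3 →ₐ[k] B k 3 => Spec.map (CommRingCat.ofHom f.toRingHom)) (psi_str k 1 0 rfl)
  · change Spec.map (CommRingCat.ofHom (proj k 3 (by decide)).toRingHom) ≫ Spec.map (CommRingCat.ofHom (psi k 1 0).toRingHom) =
      Spec.map (CommRingCat.ofHom (proj k 3 (by decide)).toRingHom)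
    rw [← Spec.map_comp, ← CommRingCat.ofHom_comp]
    have e2 : (proj k 3 (by decide)).toRingHom.comp (psi k 1 0).toRingHom = (proj k 3 (by decide)).toRingHom :=
      RingHom.ext fun x => DFunLike.congr_fun (proj_psi k 1 0) x
    rw [e2]

/-- Truncation of the thickened node. -/
def trB : B k 3 →ₐ[k] B k 2 :=
  Ideal.Quotient.factorₐ k (Ideal.span_singleton_le_span_singleton.mpr (pow_dvd_pow _ (by decide)))

theorem isPullback_tr : IsPullback (Spec.map (CommRingCat.ofHom (trB k).toRingHom))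
    (Spec.map (CommRingCat.ofHom (str k 2).toRingHom)) (Spec.map (CommRingCat.ofHom (str k 3).toRingHom))
    (Spec.map (CommRingCat.ofHom (trA k).toRingHom)) := by
  have h : ((str k 2).toRingHom.comp (trA k).toRingHom) = (trB k).toRingHom.comp (str k 3).toRingHom :=
    T_ext k _ _ (fun c => by
      show str k 2 (trA k (algebraMap k _ c)) = trB k (str k 3 (algebraMap k _ c))
      simp only [AlgHom.commutes]) (by
      show str k 2 (trA k (tt k 3)) = trB k (str k 3 (tt k 3))
      rw [trA_tt, str_tt, str_tt]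
      rfl)
  have hpo := DefLib.isPushout_of_surjective (CommRingCat.ofHom (trA k).toRingHom)
    (CommRingCat.ofHom (str k 3).toRingHom) (CommRingCat.ofHom (str k 2).toRingHom)
    (CommRingCat.ofHom (trB k).toRingHom) (CommRingCat.hom_ext h)
    (Ideal.Quotient.factor_surjective (Ideal.span_singleton_le_span_singleton.mpr (pow_dvd_pow _ (by decide))))
    (Ideal.Quotient.factor_surjective (Ideal.span_singleton_le_span_singleton.mpr (pow_dvd_pow _ (by decide)))) (by
      intro p hp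
      obtain ⟨p, rfl⟩ := Ideal.Quotient.mk_surjective p
      obtain ⟨c, rfl⟩ := Ideal.mem_span_singleton.mp (Ideal.Quotient.eq_zero_iff_mem.mp (RingHom.mem_ker.mp hp))
      rw [map_mul]
      refine Ideal.mul_mem_right _ _ ?_
      rw [map_pow, ← str_tt, ← map_pow (str k 3)]
      refine Ideal.mem_map_of_mem (str k 3).toRingHom (RingHom.mem_ker.mpr ?_)
      show trA k (tt k 3 ^ 2) = 0
      rw [map_pow, trA_tt, tt_pow])
  exact (isPullback_SpecMap_of_isPushout _ _ _ _ hpo).flip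

theorem trB_mk (p : M k) : trB k (Ideal.Quotient.mk _ p) = Ideal.Quotient.mk _ p :=
  Ideal.Quotient.lift_mk _ _ _

theorem proj_trB : (proj k 2 (by decide)).toRingHom.comp (trB k).toRingHom = (proj k 3 (by decide)).toRingHom :=
  Ideal.Quotient.ringHom_ext (RingHom.ext fun p => by
    show proj k 2 (by decide) (trB k (Ideal.Quotient.mk _ p)) = proj k 3 (by decide) (Ideal.Quotient.mk _ p)
    rw [trB_mk, proj_mk, proj_mk])

theorem family_tr :
    Nonempty (((family k 3 (by decide)).baseChange (tr k)).Iso (family k 2 (by decide))) := by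
  refine nonempty_iso_of_isPullback _ _ _ (Spec.map (CommRingCat.ofHom (trB k).toRingHom)) (isPullback_tr k) ?_
  change Spec.map (CommRingCat.ofHom (proj k 2 (by decide)).toRingHom) ≫ Spec.map (CommRingCat.ofHom (trB k).toRingHom) =
      Spec.map (CommRingCat.ofHom (proj k 3 (by decide)).toRingHom)
  rw [← Spec.map_comp, ← CommRingCat.ofHom_comp, proj_trB]

/-- The specialization `x, y ↦ t`. -/
def eta : B k 2 →ₐ[k] T k 3 :=
  Ideal.Quotient.liftₐ _ (MvPolynomial.aeval fun _ => tt k 3) fun a ha => by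
    obtain ⟨b, rfl⟩ := Ideal.mem_span_singleton.mp ha
    rw [map_mul, map_pow, map_mul, MvPolynomial.aeval_X, MvPolynomial.aeval_X]
    linear_combination (tt k 3 * MvPolynomial.aeval (fun _ => tt k 3) b) * tt_pow k 3

theorem no_retraction (ρ : N k →+* B k 2) (hρ : ∀ a, proj k 2 (by decide) (ρ a) = a) : False := by
  have key : ∀ b : B k 2, proj k 2 (by decide) b = 0 → tt k 3 ^ 2 ∣ eta k b := by
    intro b hb
    obtain ⟨p, rfl⟩ := Ideal.Quotient.mk_surjective b
    rw [proj_mk, Ideal.Quotient.eq_zero_iff_mem, Ideal.mem_span_singleton] at hb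
    obtain ⟨q, rfl⟩ := hb
    refine ⟨MvPolynomial.aeval (fun _ => tt k 3) q, ?_⟩
    show MvPolynomial.aeval (fun _ => tt k 3) (xy k * q) = _
    rw [map_mul, map_mul, MvPolynomial.aeval_X, MvPolynomial.aeval_X, sq]
  have hx : ∀ i : Fin 2, ∃ c, eta k (ρ (Ideal.Quotient.mk _ (MvPolynomial.X i))) = tt k 3 + tt k 3 ^ 2 * c := by
    intro i
    obtain ⟨c, hc⟩ := key (ρ (Ideal.Quotient.mk _ (MvPolynomial.X i)) - Ideal.Quotient.mk _ (MvPolynomial.X i))
      (by rw [map_sub, hρ, proj_mk, sub_self])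
    refine ⟨c, ?_⟩
    rw [map_sub, show eta k (Ideal.Quotient.mk _ (MvPolynomial.X i)) = tt k 3 from MvPolynomial.aeval_X _ _] at hc
    linear_combination hc
  obtain ⟨c, hc⟩ := hx 0
  obtain ⟨d, hd⟩ := hx 1
  have h0 : eta k (ρ (Ideal.Quotient.mk _ (MvPolynomial.X 0))) * eta k (ρ (Ideal.Quotient.mk _ (MvPolynomial.X 1))) = 0 := by
    rw [← map_mul, ← map_mul, ← map_mul,
      Ideal.Quotient.eq_zero_iff_mem.mpr (Ideal.mem_span_singleton_self _), map_zero, map_zero]
  rw [hc, hd] at h0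
  exact tt3_sq_ne k (by linear_combination h0 - (c + d + tt k 3 * c * d) * tt_pow k 3)

theorem cancel_aux {W Y Z V : Scheme.{u}} (j : W ⟶ Y) (f : Y ≅ Z) (p : Y ⟶ V) (q : V ⟶ W)
    (h : j ≫ p ≫ q = 𝟙 W) : (j ≫ f.hom) ≫ f.inv ≫ p ≫ q = 𝟙 W := by
  simp [h]

theorem not_trivial
    (ζ : ArtFun.DefSch (Spec (CommRingCat.of (N k))) (Spec.map (CommRingCat.ofHom (algebraMap k (N k))))
      (ArtFun.Art.base k k)) :
    ¬ Nonempty ((ζ.baseChange (ArtFun.Art.ofBase (art k 2 (by decide)))).Iso (family k 2 (by decide))) := by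
  rintro ⟨e⟩
  haveI : IsIso ζ.i := ζ.isPullback.isIso_fst_of_isIso
  let r : Spec (CommRingCat.of (B k 2)) ⟶ Spec (CommRingCat.of (N k)) :=
    e.iso.inv ≫ pullback.fst ζ.f (ArtFun.Art.specMap (ArtFun.Art.ofBase (art k 2 (by decide)))) ≫ inv ζ.i
  have hr : (family k 2 (by decide)).i ≫ r = 𝟙 _ := by
    rw [← e.i_hom]
    exact cancel_aux _ e.iso _ _ (by rw [← Category.assoc, ArtFun.DefSch.baseChange_i_fst, IsIso.hom_inv_id])
  obtain ⟨ρ, hρ⟩ : ∃ ρ : CommRingCat.of (N k) ⟶ CommRingCat.of (B k 2), Spec.map ρ = r := ⟨Spec.preimage r, Spec.map_preimage r⟩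
  rw [← hρ] at hr
  change Spec.map (CommRingCat.ofHom (proj k 2 (by decide)).toRingHom) ≫ Spec.map ρ = 𝟙 _ at hr
  rw [← Spec.map_comp, ← Spec.map_id, Spec.map_inj] at hr
  exact no_retraction k ρ.hom fun a => by
    have := congrArg (fun f : CommRingCat.of (N k) ⟶ CommRingCat.of (N k) => f.hom a) hr
    exact this

theorem fixed_tr (a : T k 3) (ha : tw k 1 a = a) :
    trA k a = algebraMap k (T k 2) (res k 3 (by decide) a) := by
  obtain ⟨P, rfl⟩ := Ideal.Quotient.mk_surjective a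
  obtain ⟨a₀, a₁, Q, hP⟩ : ∃ (a₀ a₁ : k) (Q : k[X]), P = Polynomial.C a₀ + Polynomial.C a₁ * X + X ^ 2 * Q := by
    refine ⟨P.coeff 0, P.coeff 1, P.divX.divX, ?_⟩
    conv_lhs => rw [← P.X_mul_divX_add, ← P.divX.X_mul_divX_add]
    rw [Polynomial.coeff_divX]
    ring
  have e : Ideal.Quotient.mk (Ideal.span {(X : k[X]) ^ 3}) P =
      algebraMap k (T k 3) a₀ + algebraMap k (T k 3) a₁ * tt k 3 + tt k 3 ^ 2 * Ideal.Quotient.mk _ Q := by
    rw [hP, map_add, map_add, map_mul, map_mul, map_pow]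
    rfl
  obtain ⟨q₀, hq₀⟩ : ∃ q₀ : T k 3, Ideal.Quotient.mk _ Q = algebraMap k (T k 3) (Q.coeff 0) + tt k 3 * q₀ := by
    refine ⟨Ideal.Quotient.mk _ Q.divX, ?_⟩
    conv_lhs => rw [← Q.X_mul_divX_add]
    rw [map_add, map_mul, add_comm]
    rfl
  rw [e] at ha
  rw [e]
  rw [hq₀, map_add, map_add, map_mul, map_mul, map_pow, map_add, map_mul, AlgHom.commutes, AlgHom.commutes,
    AlgHom.commutes, tw_tt, map_one, one_mul] at ha
  have ha₁ : algebraMap k (T k 3) a₁ * tt k 3 ^ 2 = 0 := by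
    linear_combination ha + (q₀ - algebraMap k (T k 3) (Q.coeff 0) * (2 + tt k 3) -
      tw k 1 q₀ * (1 + tt k 3) ^ 3) * tt_pow k 3
  have h1 : a₁ = 0 := by_contra fun hne =>
    tt3_sq_ne k (((isUnit_iff_ne_zero.mpr hne).map (algebraMap k (T k 3))).mul_right_eq_zero.mp ha₁)
  rw [map_add, map_add, map_mul, map_mul, map_pow, AlgHom.commutes, AlgHom.commutes, trA_tt, tt_pow, h1]
  simp [res_tt]

theorem not_prorepresentable :
    ¬ ArtFun.IsProrepresentable (ArtFun.defFunctor (Λ := k) (Spec (CommRingCat.of (N k)))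
      (Spec.map (CommRingCat.ofHom (algebraMap k (N k))))) := by
  rintro ⟨P⟩
  obtain ⟨g, hg⟩ := (P.universal (art k 3 (by decide))).2 (family k 3 (by decide)).cl
  have hfix : ArtFun.HomSet.map (phi k 1) g = g := (P.universal _).1 (by
    rw [P.family.natural, hg, ArtFun.defFunctor_map_cl]
    exact Quotient.sound (family_phi k))
  have hbase : ∃ g₀ : ArtFun.HomSet P.ring.carrier P.ring.res (ArtFun.Art.base k k),
      ArtFun.HomSet.map (tr k) g = ArtFun.HomSet.map (ArtFun.Art.ofBase (art k 2 (by decide))) g₀ := by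
    refine ⟨⟨P.ring.res, AlgHom.id_comp _⟩, Subtype.ext (AlgHom.ext fun r => ?_)⟩
    have h1 : tw k 1 (g.1 r) = g.1 r :=
      congrArg (fun f : ArtFun.HomSet P.ring.carrier P.ring.res (art k 3 (by decide)) => f.1 r) hfix
    have h2 : res k 3 (by decide) (g.1 r) = P.ring.res r := congrArg (fun f : P.ring.carrier →ₐ[k] k => f r) g.2
    show trA k (g.1 r) = algebraMap k (T k 2) (P.ring.res r)
    rw [fixed_tr k _ h1, h2]
  obtain ⟨g₀, hg₀⟩ := hbase
  have h := congrArg (P.family.app _) hg₀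
  rw [P.family.natural, P.family.natural, hg, ArtFun.defFunctor_map_cl] at h
  obtain ⟨ζ, hζ⟩ := Quotient.exists_rep (P.family.app _ g₀)
  rw [← hζ] at h
  have h' : ((family k 3 (by decide)).baseChange (tr k)).cl = (ζ.baseChange (ArtFun.Art.ofBase _)).cl := h
  obtain ⟨e⟩ := Quotient.exact h'
  obtain ⟨e'⟩ := family_tr k
  exact not_trivial k ζ ⟨e.symm.trans e'⟩

end NodeDef56Lib
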